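import Cfsg.Agent.Lib.ToddCox.Glue
set_option autoImplicit false
set_option maxRecDepth 100000
namespace Cfsg.Agent.Lib.ToddCox.RUC3
def E_0 : ℕ := 0x90800002400002420000090000090000002400002400000090000080000002000002000000080000080800002000002020000080000070800001c00001c20000070000060000001000001000000060000050800001400001420000050000040400001000001010000040000010000000400000400000010000000400000000000010000000000000000000000000000000000000070400002400002410000070000060400002000002010000060000050000001c00001c00000050000030800001800001820000030000030400001400001410000030000020800001000001020000020000020000000c00000c0000002000001040000080000081000001000000080000040000042000000
end Cfsg.Agent.Lib.ToddCox.RUC3
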