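import Cfsg.Agent.Lib.ToddCox.RUC3.Data
set_option autoImplicit false
set_option maxRecDepth 100000
namespace Cfsg.Agent.Lib.ToddCox.RUC3
theorem wordsGood : allBelow (wordsOK W (relR Rb inv) inv sp) nW 4 = true := by decide +kernel
theorem d0 : allBits (fun k => bif Nat.blt k 9 then chkDef Eo inv k else true) 13 0 = true := by decide +kernel
theorem s0 : chkStream Eo inv W isH 11 9 0x80000030000034000008000002000001c00003000001c000005000002400001a00001e0000088000090000010000010000006000002000000800000200000b000000c00000a000009000006800004400000e000021000007000007400000c00000200000b8000000000028000012000000800000c00000a00000b000007800001800001c00001d000003000001400001200001a000004000001000000e00001c000007800001400001800001a0000068000010000014000004000001000000000002a000013000000800005800000600000700000c000000c000010000004000001000000000002a00001300000a8000004000006000005000004800000800000c000002000000000005400000200000300000380000040000000000130000008000003ffffffffffff = true := by decide +kernel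
theorem c0 : Covered Eo inv W isH 9 20 := covered_of_stream 11 9 _ s0
theorem l0 : chkPoints Eo cF (2 * nEv) N ys 10 0 0x1380000240000220000070000128000024000042000008000007800001800004600000800000f800001c0000200000090000068000014000016000003000007000002000003800000400000d8000014000012000003000006000001c00000e00000200000c800001000003a0000060000050000018000010000005000002800000800000c0000040000018000004000008000003000000800000000000400000200000b800000400000000000100000a0000000000024000000 = true := by decide +kernel
theorem k0 : LinksOK Eo cF (2 * nEv) N ys 0 10 := linksOK_of_points 10 0 _ l0
end Cfsg.Agent.Lib.ToddCox.RUC3
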